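import Groth.Agent.EtGabberLib.LocSec
import Groth.Agent.EtLimLib.Hpull
import Groth.Agent.KPi1Lib.H1Kill
import Groth.Agent.S0101

/-!
# Classes of positive degree die Zariski locally

When étale maps have Zariski local sections, every cohomology class of positive degree dies on the members
of an open covering.
-/

set_option autoImplicit false
set_option backward.isDefEq.respectTransparency false
set_option backward.isDefEq.respectTransparency.types false
set_option linter.style.haveILetI false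
set_option maxHeartbeats 800000

universe u

open CategoryTheory CategoryTheory.Limits AlgebraicGeometry Opposite GrothendieckTopology CategoryTheory.Abelian

attribute [local instance] Groth.Agent.S0101.result

noncomputable section

namespace Groth.Agent.EtGabberLib

variable {Z : Scheme.{u}}

/-- A class of degree one dies on an étale scheme carrying a lift of the section it comes from. -/
theorem Hpull_eq_zero_of_section_lift {P : ShortComplex (EtCoh.Ab Z)} (hP : P.ShortExact) (y : EtCoh.H Z P.X₃ 0)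
    (T : Z.Etale) (t : EtCoh.sect P.X₂ T)
    (ht : P.g.hom.app (op T) t =
      P.X₃.obj.map ((EtCore.topIsTerminal Z).from T).op (Sheaf.H.equiv₀ P.X₃ (EtCore.topIsTerminal Z) y)) :
    EtCore.Hpull T.hom P.X₁ 1 (y.comp hP.extClass rfl) = 0 := by
  let g : T.left ⟶ Z := T.hom
  haveI : AlgebraicGeometry.Etale g := T.prop
  let q := Sheaf.H.equiv₀ P.X₃ (EtCore.topIsTerminal Z) y
  let u := (EtCoh.pullPushAdj g).unit
  let δ : EtCoh.top T.left ⟶ (EtCoh.bc g).obj T :=
    MorphismProperty.Over.homMk (pullback.lift (𝟙 T.left) (𝟙 T.left) rfl) (pullback.lift_snd _ _ _)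
  let s : EtCoh.sect ((EtCoh.pull g).obj P.X₂) (EtCoh.top T.left) :=
    ((EtCoh.pull g).obj P.X₂).obj.map δ.op ((u.app P.X₂).hom.app (op T) t)
  rw [← KPi1Lib.HpullThen_id]
  refine EtLimLib.HpullThen_eq_zero_of_lift g hP (hP.map_of_exact (EtCoh.pull g)) (𝟙 _) y
    ((Sheaf.H.equiv₀ ((EtCoh.pull g).obj P.X₂) (EtCore.topIsTerminal T.left)).symm s) ?_
  apply (Sheaf.H.equiv₀ ((EtCoh.pull g).obj P.X₃) (EtCore.topIsTerminal T.left)).injective
  refine (EtLimLib.equiv₀_HpullThen g (𝟙 _) y).trans ?_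
  rw [Adjunction.homEquiv_id]
  refine Eq.trans ?_ (Sheaf.H.equiv₀_naturality (EtCore.topIsTerminal T.left) ((EtCoh.pull g).map P.g) _)
  rw [AddEquiv.apply_symm_apply]
  let K := (EtCoh.pull g).obj P.X₃
  let r := (EtCore.topIsTerminal Z).from T
  have e1 : K.obj.map ((EtCoh.bc g).map r).op ((u.app P.X₃).hom.app (op (EtCoh.top Z)) q) =
      (u.app P.X₃).hom.app (op T) (P.X₃.obj.map r.op q) :=
    (NatTrans.naturality_apply (u.app P.X₃).hom r.op q).symm
  have e2 : ((EtCoh.pull g).map P.g).hom.app (op ((EtCoh.bc g).obj T)) ((u.app P.X₂).hom.app (op T) t) =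
      (u.app P.X₃).hom.app (op T) (P.g.hom.app (op T) t) :=
    ConcreteCategory.congr_hom (congrArg (fun m => m.hom.app (op T)) (u.naturality P.g).symm) t
  show K.obj.map (EtCore.bcTopIso g).inv.op ((u.app P.X₃).hom.app (op (EtCoh.top Z)) q) =
    ((EtCoh.pull g).map P.g).hom.app (op (EtCoh.top T.left))
      (((EtCoh.pull g).obj P.X₂).obj.map δ.op ((u.app P.X₂).hom.app (op T) t))
  rw [show ((EtCoh.pull g).map P.g).hom.app (op (EtCoh.top T.left))
      (((EtCoh.pull g).obj P.X₂).obj.map δ.op ((u.app P.X₂).hom.app (op T) t)) =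
      K.obj.map δ.op (((EtCoh.pull g).map P.g).hom.app (op ((EtCoh.bc g).obj T)) ((u.app P.X₂).hom.app (op T) t)) from
    NatTrans.naturality_apply ((EtCoh.pull g).map P.g).hom δ.op _]
  refine Eq.trans ?_ (congrArg (K.obj.map δ.op) (e1.trans ((congrArg ((u.app P.X₃).hom.app (op T)) ht.symm).trans e2.symm)))
  refine Eq.trans ?_ (ConcreteCategory.congr_hom (K.obj.map_comp ((EtCoh.bc g).map r).op δ.op) _)
  refine congrArg (fun m => K.obj.map m ((u.app P.X₃).hom.app (op (EtCoh.top Z)) q)) ?_
  rw [← op_comp]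
  exact congrArg Quiver.Hom.op ((cancel_mono (EtCore.bcTopIso g).hom).1 ((EtCore.topIsTerminal T.left).hom_ext _ _))

/-- Classes of positive degree die Zariski locally. -/
theorem exists_kill (hZ : LocSec Z) (n : ℕ) :
    ∀ (G : EtCoh.Ab Z) (ξ : EtCoh.H Z G (n + 1)) (x : Z),
      ∃ O : Z.Opens, x ∈ O ∧ EtCore.Hpull O.ι G (n + 1) ξ = 0 := by
  induction n with
  | zero =>
    intro G ξ x
    let P := ShortComplex.mk (Injective.ι G) (cokernel.π (Injective.ι G)) (cokernel.condition _)
    have hP : P.ShortExact := { exact := ShortComplex.exact_of_g_is_cokernel P (cokernelIsCokernel _) }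
    haveI : Injective P.X₂ := Injective.injective_under G
    obtain ⟨y, rfl⟩ := Ext.covariant_sequence_exact₁ _ hP ξ (Ext.eq_zero_of_injective _) (zero_add 1)
    let q := Sheaf.H.equiv₀ P.X₃ (EtCore.topIsTerminal Z) y
    haveI := hP.epi_g
    haveI : Sheaf.IsLocallySurjective P.g :=
      (Sheaf.isLocallySurjective_iff_epi' AddCommGrpCat.{u + 1} P.g).2 inferInstance
    obtain ⟨V, g, v, ⟨i, hi⟩, hv⟩ := EtPtsLib.exists_mem_of_covering
      (Presheaf.imageSieve_mem Z.smallEtaleTopology P.g.hom (U := op (EtCoh.top Z)) q) x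
    obtain ⟨O, hO, s, hs⟩ := hZ V v
    have hVv : V.hom v = x := by
      rw [show V.hom = g.left from (Over.w g.hom).symm.trans (Category.comp_id _)]
      exact hv
    refine ⟨O, hVv ▸ hO, ?_⟩
    let T : Z.Etale := Scheme.Etale.mk O.ι
    let a : T ⟶ V := MorphismProperty.Over.homMk s hs
    exact Hpull_eq_zero_of_section_lift hP y T (P.X₂.obj.map a.op i) (by
      rw [show P.g.hom.app (op T) (P.X₂.obj.map a.op i) = P.X₃.obj.map a.op (P.g.hom.app (op V) i) from
        NatTrans.naturality_apply P.g.hom a.op i, hi, ← CategoryTheory.comp_apply, ← Functor.map_comp, ← op_comp,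
        (EtCore.topIsTerminal Z).hom_ext (a ≫ g) ((EtCore.topIsTerminal Z).from T)])
  | succ n ih =>
    intro G ξ x
    let P := ShortComplex.mk (Injective.ι G) (cokernel.π (Injective.ι G)) (cokernel.condition _)
    have hP : P.ShortExact := { exact := ShortComplex.exact_of_g_is_cokernel P (cokernelIsCokernel _) }
    haveI : Injective P.X₂ := Injective.injective_under G
    obtain ⟨y, rfl⟩ := Ext.covariant_sequence_exact₁ _ hP ξ (Ext.eq_zero_of_injective _) (rfl : n + 1 + 1 = n + 1 + 1)
    obtain ⟨O, hO, hy⟩ := ih P.X₃ y x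
    refine ⟨O, hO, ?_⟩
    have h := EtLimLib.HpullThen_extClass O.ι hP (hP.map_of_exact (EtCoh.pull O.ι)) (𝟙 _) y
    refine ((KPi1Lib.HpullThen_id O.ι P.X₁ (n + 1 + 1) _).symm.trans h).trans ?_
    rw [show EtLim.HpullThen O.ι P.X₃ (𝟙 (P.map (EtCoh.pull O.ι)) : _ ⟶ _).τ₃ (n + 1) y = 0 from
      (KPi1Lib.HpullThen_id O.ι P.X₃ (n + 1) y).trans hy]
    exact Ext.zero_comp _ _ _ _ _

end Groth.Agent.EtGabberLib
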