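import Groth.Agent.Hensel.Sections
import Groth.Agent.EtPtsLib.Conditions
import Mathlib.RingTheory.FinitePresentation
import Mathlib.RingTheory.Localization.Away.Basic

/-!
# Zariski local sections of étale maps when the local rings are strictly henselian
-/

set_option autoImplicit false
set_option backward.isDefEq.respectTransparency false
set_option backward.isDefEq.respectTransparency.types false
set_option linter.style.haveILetI false
set_option maxHeartbeats 1000000

universe u

open CategoryTheory CategoryTheory.Limits AlgebraicGeometry IsLocalRing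

noncomputable section

namespace Groth.Agent.EtGabberLib

/-- A point with values in a local ring of a finitely presented algebra spreads to a basic open. -/
theorem exists_away_algHom {A S : Type u} [CommRing A] [CommRing S] [Algebra A S] [Algebra.FinitePresentation A S]
    (p : Ideal A) [p.IsPrime] (τ : S →ₐ[A] Localization.AtPrime p) :
    ∃ g ∉ p, Nonempty (S →ₐ[A] Localization.Away g) := by
  classical
  obtain ⟨m, π, hπ, ⟨G, hG⟩⟩ := (inferInstance : Algebra.FinitePresentation A S)
  obtain ⟨⟨b, hb⟩, hint⟩ :=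
    IsLocalization.exist_integer_multiples_of_finite p.primeCompl fun i => τ (π (MvPolynomial.X i))
  choose a ha using hint
  let Ab := Localization.Away b
  have hbu : IsUnit (Algebra.ofId A (Localization.AtPrime p) b) :=
    IsLocalization.map_units (Localization.AtPrime p) (⟨b, hb⟩ : p.primeCompl)
  let ι : Ab →ₐ[A] Localization.AtPrime p :=
    { IsLocalization.Away.lift (S := Ab) b hbu with
      commutes' := fun x => IsLocalization.Away.lift_eq b hbu x }
  let ψ : MvPolynomial (Fin m) A →ₐ[A] Ab :=
    MvPolynomial.aeval fun i => algebraMap A Ab (a i) * IsLocalization.Away.invSelf b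
  have hψ : ι.comp ψ = τ.comp π := MvPolynomial.algHom_ext fun i => by
    refine hbu.mul_left_cancel ?_
    show algebraMap A (Localization.AtPrime p) b * ι (ψ (MvPolynomial.X i)) =
      algebraMap A (Localization.AtPrime p) b * τ (π (MvPolynomial.X i))
    rw [MvPolynomial.aeval_X, map_mul, ι.commutes, ← Algebra.smul_def (A := Localization.AtPrime p) b (τ _),
      show b • τ (π (MvPolynomial.X i)) = _ from (ha i).symm, mul_left_comm, ← ι.commutes b, ← map_mul,
      IsLocalization.Away.mul_invSelf, map_one, mul_one]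
  have hrel : ∀ f ∈ G, ∃ s ∉ p, algebraMap A Ab s * ψ f = 0 := fun f hf => by
    obtain ⟨c, ⟨_, n, rfl⟩, hc⟩ := IsLocalization.exists_mk'_eq (Submonoid.powers b) (ψ f)
    have h0 : ι (ψ f) = 0 := by
      rw [show ι (ψ f) = τ (π f) from AlgHom.congr_fun hψ f,
        show π f = 0 from RingHom.mem_ker.1 (hG ▸ Ideal.subset_span hf), map_zero]
    have h1 : algebraMap A (Localization.AtPrime p) c = 0 := by
      rw [← ι.commutes, ← IsLocalization.mk'_spec Ab c (⟨b ^ n, n, rfl⟩ : Submonoid.powers b), map_mul, hc, h0, zero_mul]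
    obtain ⟨⟨s, hs⟩, hsc⟩ := (IsLocalization.map_eq_zero_iff p.primeCompl (Localization.AtPrime p) c).1 h1
    refine ⟨s, hs, ?_⟩
    rw [← hc, IsLocalization.mul_mk'_eq_mk'_of_mul, show s * c = 0 from hsc, IsLocalization.mk'_zero]
  choose s hs hsf using hrel
  let t : A := ∏ f ∈ G.attach, s f.1 f.2
  have ht : t ∉ p := fun h => by
    obtain ⟨f, -, hf⟩ := (Ideal.IsPrime.prod_mem_iff).1 h
    exact hs f.1 f.2 hf
  refine ⟨b * t, p.primeCompl.mul_mem hb ht, ?_⟩
  let Ag := Localization.Away (b * t)
  have hu : IsUnit (algebraMap A Ag b * algebraMap A Ag t) := by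
    rw [← map_mul]
    exact IsLocalization.Away.algebraMap_isUnit (b * t)
  have hub : IsUnit (algebraMap A Ag b) := isUnit_of_mul_isUnit_left hu
  let ρ : Ab →ₐ[A] Ag :=
    { IsLocalization.Away.lift (S := Ab) b hub with
      commutes' := fun x => IsLocalization.Away.lift_eq b hub x }
  have hker : RingHom.ker π.toRingHom ≤ RingHom.ker (ρ.comp ψ).toRingHom := by
    rw [← hG]
    refine Ideal.span_le.2 fun f hf => ?_
    show ρ (ψ f) = 0
    have hus : IsUnit (algebraMap A Ag (s f hf)) := by
      refine isUnit_of_dvd_unit (map_dvd _ ?_) (isUnit_of_mul_isUnit_right hu)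
      exact Finset.dvd_prod_of_mem (fun f : G => s f.1 f.2) (Finset.mem_attach G ⟨f, hf⟩)
    refine hus.mul_right_eq_zero.1 ?_
    rw [← ρ.commutes, ← map_mul, hsf, map_zero]
  exact ⟨AlgHom.liftOfSurjective π hπ (ρ.comp ψ) hker⟩

/-- Étale maps to the scheme have sections Zariski locally around the images of their points. -/
def LocSec (Y : Scheme.{u}) : Prop :=
  ∀ (T : Y.Etale) (v : T.left), ∃ O : Y.Opens, T.hom v ∈ O ∧ ∃ s : O.toScheme ⟶ T.left, s ≫ T.hom = O.ι

theorem locSec_spec (R : Type u) [CommRing R]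
    (hR : ∀ p : PrimeSpectrum R, EtCoh.IsStrictlyHenselianLocalRing (Localization.AtPrime p.asIdeal)) :
    LocSec (Spec (CommRingCat.of R)) := by
  intro T v
  haveI : AlgebraicGeometry.Etale T.hom := T.prop
  obtain ⟨S, _, _, j, hj, ⟨q, hq⟩, hjf⟩ := Hensel.exists_affine_presentation (T.hom : T.left ⟶ Spec (CommRingCat.of R)) v
  let P : PrimeSpectrum R := T.hom v
  let Rp := Localization.AtPrime P.asIdeal
  obtain ⟨_, _⟩ := hR P
  let γ : Spec (CommRingCat.of Rp) ⟶ Spec (CommRingCat.of R) := Spec.map (CommRingCat.ofHom (algebraMap R Rp))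
  let a : Spec (CommRingCat.of S) ⟶ Spec (CommRingCat.of R) := Spec.map (CommRingCat.ofHom (algebraMap R S))
  haveI ha : AlgebraicGeometry.Etale a := by
    show AlgebraicGeometry.Etale (Spec.map (CommRingCat.ofHom (algebraMap R S)))
    rw [← hjf]
    infer_instance
  have hPc : γ (closedPoint Rp) = P := PrimeSpectrum.ext (IsLocalization.AtPrime.under_maximalIdeal Rp P.asIdeal)
  have haq : a q = P := by
    show (Spec.map (CommRingCat.ofHom (algebraMap R S))) q = T.hom v
    rw [← hjf, Scheme.Hom.comp_apply]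
    exact congrArg T.hom hq
  obtain ⟨z, -, hz2⟩ := Scheme.Pullback.exists_preimage_pullback (f := a) (g := γ) q (closedPoint Rp) (haq.trans hPc.symm)
  obtain ⟨σ, hσ, -⟩ := Hensel.exists_section_of_etale (pullback.snd a γ) z hz2
  have hcomp : (σ ≫ pullback.fst a γ) ≫ a = γ := by
    rw [Category.assoc, pullback.condition, ← Category.assoc, hσ, Category.id_comp]
  obtain ⟨φ, hφ⟩ := Spec.map_surjective (σ ≫ pullback.fst a γ)
  have hφ' : CommRingCat.ofHom (algebraMap R S) ≫ φ = CommRingCat.ofHom (algebraMap R Rp) :=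
    Spec.map_injective (by rw [Spec.map_comp, hφ]; exact hcomp)
  let τ : S →ₐ[R] Rp := { φ.hom with commutes' := fun x => congr($(hφ').hom x) }
  haveI : Algebra.Etale R S := RingHom.etale_algebraMap.1 ((HasRingHomProperty.Spec_iff (P := @AlgebraicGeometry.Etale)).1 ha)
  obtain ⟨g, hg, ⟨τ'⟩⟩ := exists_away_algHom P.asIdeal τ
  let w : Spec (CommRingCat.of (Localization.Away g)) ⟶ Spec (CommRingCat.of R) :=
    Spec.map (CommRingCat.ofHom (algebraMap R (Localization.Away g)))
  haveI : IsOpenImmersion w := IsOpenImmersion.of_isLocalization g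
  have hmem : T.hom v ∈ w.opensRange := by
    show P ∈ Set.range w
    rw [show Set.range w = (PrimeSpectrum.basicOpen g : Set (PrimeSpectrum R)) from
      PrimeSpectrum.localization_away_comap_range (Localization.Away g) g]
    exact hg
  refine ⟨w.opensRange, hmem, w.isoOpensRange.inv ≫ Spec.map (CommRingCat.ofHom τ'.toRingHom) ≫ j, ?_⟩
  rw [Category.assoc, Category.assoc, hjf, ← Spec.map_comp, show CommRingCat.ofHom (algebraMap R S) ≫
    CommRingCat.ofHom τ'.toRingHom = CommRingCat.ofHom (algebraMap R (Localization.Away g)) from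
    CommRingCat.hom_ext (RingHom.ext fun x => τ'.commutes x)]
  exact Scheme.Hom.isoOpensRange_inv_comp w

theorem LocSec.opens {X : Scheme.{u}} (hX : LocSec X) (W : X.Opens) : LocSec W.toScheme := by
  intro T v
  haveI : AlgebraicGeometry.Etale T.hom := T.prop
  haveI : AlgebraicGeometry.Etale (T.hom ≫ W.ι) := inferInstance
  obtain ⟨O, hO, s, hs⟩ := hX (Scheme.Etale.mk (T.hom ≫ W.ι)) v
  refine ⟨W.ι ⁻¹ᵁ O, hO, (W.ι ∣_ O) ≫ s, ?_⟩
  rw [← cancel_mono W.ι, Category.assoc, Category.assoc]
  exact (congrArg ((W.ι ∣_ O) ≫ ·) hs).trans (morphismRestrict_ι W.ι O)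

end Groth.Agent.EtGabberLib
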