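import Groth.Agent.EtGabberLib.Kill
import Groth.Agent.OpenMVLib.Sequence
import Groth.Agent.KPi1Lib.FiniteEtale
import Groth.Agent.AcycCompLib.Basic
import Groth.Agent.EtJCont.Basic
import Groth.Agent.EtPtsLib.Criteria

/-!
# Gabber's vanishing criterion on affine schemes

The groups `Extⁿ(ℤ_U, F)` for basic opens `U` are used in place of `Hⁿ(U, F|_U)`: restriction is then
precomposition with inclusions, and the ideal argument takes place inside one category.
-/

set_option autoImplicit false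
set_option backward.isDefEq.respectTransparency false
set_option backward.isDefEq.respectTransparency.types false
set_option linter.style.haveILetI false
set_option maxHeartbeats 1000000

universe u

open CategoryTheory CategoryTheory.Limits AlgebraicGeometry Opposite CategoryTheory.Abelian

attribute [local instance] Groth.Agent.S0101.result Groth.Agent.EtJCont.jCont

noncomputable section

namespace Groth.Agent.EtGabberLib

open OpenMVLib

variable {X : Scheme.{u}} (F : EtCoh.Ab X)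

/-- The inclusion of extensions by zero. -/
def io {a b : X.Opens} (h : a ≤ b) : GW a.ι ⟶ GW b.ι :=
  iota b.ι a.ι (X.homOfLE h) (X.homOfLE_ι h)

theorem io_eps {a b : X.Opens} (h : a ≤ b) : io h ≫ eps b.ι = eps a.ι := iota_eps _ _ _ _

theorem io_trans {a b c : X.Opens} (h : a ≤ b) (h' : b ≤ c) : io h ≫ io h' = io (h.trans h') := by
  haveI := FLCLib.mono_counit c.ι (EtCoh.const X ℤ)
  exact (cancel_mono (eps c.ι)).1 (by rw [Category.assoc, io_eps, io_eps, io_eps])

theorem io_refl {a : X.Opens} (h : a ≤ a) : io h = 𝟙 _ := by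
  haveI := FLCLib.mono_counit a.ι (EtCoh.const X ℤ)
  exact (cancel_mono (eps a.ι)).1 (by rw [io_eps, Category.id_comp])

/-- Restriction to a smaller open. -/
def res {a b : X.Opens} (h : a ≤ b) (n : ℕ) : Ext (GW b.ι) F n →+ Ext (GW a.ι) F n :=
  (Ext.mk₀ (io h)).precomp F (zero_add n)

theorem res_res {a b c : X.Opens} (h : a ≤ b) (h' : b ≤ c) (n : ℕ) (e : Ext (GW c.ι) F n) :
    res F h n (res F h' n e) = res F (h.trans h') n e := by
  show (Ext.mk₀ (io h)).comp ((Ext.mk₀ (io h')).comp e (zero_add n)) (zero_add n) =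
    (Ext.mk₀ (io (h.trans h'))).comp e (zero_add n)
  rw [Ext.mk₀_comp_mk₀_assoc, io_trans]

theorem res_injective_of_ge {a b : X.Opens} (h : a ≤ b) (h' : b ≤ a) (n : ℕ) : Function.Injective (res F h n) := by
  refine Function.LeftInverse.injective (g := res F h' n) fun e => ?_
  rw [res_res]
  show (Ext.mk₀ (io (h'.trans h))).comp e (zero_add n) = e
  rw [io_refl, Ext.mk₀_id_comp]

theorem hpullVia_eq_zero_iff {A B C : Scheme.{u}} (f : C ⟶ B) (t : B ⟶ A) (m : C ⟶ A) (w : f ≫ t = m)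
    (G : EtCoh.Ab A) (n : ℕ) (x : EtCoh.H B ((EtCoh.pull t).obj G) n) :
    EtCore.HpullVia f t m w G n x = 0 ↔ EtCore.Hpull f _ n x = 0 :=
  map_eq_zero_iff ((EtCoh.HF C n).map (((EtCore.pullComp f t).symm ≪≫ EtCore.pullCongr w).app G).hom).hom
    (ConcreteCategory.bijective_of_isIso
      ((EtCoh.HF C n).map (((EtCore.pullComp f t).symm ≪≫ EtCore.pullCongr w).app G).hom)).1

theorem res_eq_zero_iff {a b : X.Opens} (h : a ≤ b) (n : ℕ) (e : Ext (GW b.ι) F n) :
    res F h n e = 0 ↔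
      EtCore.HpullVia (X.homOfLE h) b.ι a.ι (X.homOfLE_ι h) F n (Phi b.ι F n e) = 0 := by
  rw [via_Phi]
  exact (map_eq_zero_iff _ (bijective_Phi a.ι F n).1).symm

theorem subsingleton_of_empty (a : X.Opens) (ha : ∀ x : X, x ∉ a) (n : ℕ) : Subsingleton (Ext (GW a.ι) F n) := by
  have hz : IsZero (GW a.ι) := (EtPtsLib.isZero_iff_ab _).2 fun Ω _ _ ξ => by
    refine EtPtsLib.isZero_stalk_extZero a.ι ξ ?_ _
    rintro ⟨p, -⟩
    exact ha p.1 p.2
  refine subsingleton_of_forall_eq 0 fun e => ?_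
  rw [← Ext.mk₀_id_comp e, hz.eq_of_src (𝟙 _) 0, Ext.mk₀_zero, Ext.zero_comp]

theorem mul_le_left (f g : Γ(X, ⊤)) : X.basicOpen (f * g) ≤ X.basicOpen f :=
  (X.basicOpen_mul f g).trans_le inf_le_left

theorem mul_le_right (f g : Γ(X, ⊤)) : X.basicOpen (f * g) ≤ X.basicOpen g :=
  (X.basicOpen_mul f g).trans_le inf_le_right

/-- Classes on the sum that die on both parts are zero. -/
def InjP (n : ℕ) : Prop :=
  ∀ (f g : Γ(X, ⊤)) (e : Ext (GW (X.basicOpen (f + g)).ι) F n),
    res F (mul_le_right f (f + g)) n e = 0 → res F (mul_le_right g (f + g)) n e = 0 → e = 0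

theorem res_add_eq_zero {n : ℕ} (hI : InjP F n) {b : X.Opens} (e : Ext (GW b.ι) F n) (f g : Γ(X, ⊤))
    (hf : X.basicOpen f ≤ b) (hg : X.basicOpen g ≤ b) (hfg : X.basicOpen (f + g) ≤ b)
    (ef : res F hf n e = 0) (eg : res F hg n e = 0) : res F hfg n e = 0 := by
  refine hI f g _ ?_ ?_
  · rw [res_res, ← res_res F (mul_le_left f (f + g)) hf, ef, map_zero]
  · rw [res_res, ← res_res F (mul_le_left g (f + g)) hg, eg, map_zero]

theorem subsingleton_of_injP [IsAffine X] (hX : LocSec X) {n : ℕ} (hI : InjP F (n + 1)) (h : Γ(X, ⊤)) :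
    Subsingleton (Ext (GW (X.basicOpen h).ι) F (n + 1)) := by
  refine subsingleton_of_forall_eq 0 fun e => ?_
  let J : Ideal Γ(X, ⊤) :=
    { carrier := {c | res F (mul_le_right c h) (n + 1) e = 0}
      zero_mem' := by
        haveI := subsingleton_of_empty F (X.basicOpen (0 * h)) (fun x hx => by
          rw [zero_mul, Scheme.basicOpen_zero] at hx
          exact hx) (n + 1)
        exact Subsingleton.elim (α := Ext (GW (X.basicOpen (0 * h)).ι) F (n + 1)) _ _
      add_mem' := fun {c d} hc hd => by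
        have hle : X.basicOpen (c * h + d * h) ≤ X.basicOpen h := by
          rw [← add_mul]
          exact mul_le_right _ h
        have h₁ := res_add_eq_zero F hI e (c * h) (d * h) (mul_le_right c h) (mul_le_right d h) hle hc hd
        show res F (mul_le_right (c + d) h) (n + 1) e = 0
        rw [← res_res F (show X.basicOpen ((c + d) * h) ≤ X.basicOpen (c * h + d * h) by rw [add_mul]) hle, h₁,
          map_zero]
      smul_mem' := fun r c hc => by
        show res F (mul_le_right (r • c) h) (n + 1) e = 0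
        rw [← res_res F (show X.basicOpen (r • c * h) ≤ X.basicOpen (c * h) by
          rw [smul_eq_mul, mul_assoc]; exact mul_le_right _ _) (mul_le_right c h),
          show res F (mul_le_right c h) (n + 1) e = 0 from hc, map_zero] }
  have hrad : h ∈ J.radical := by
    rw [Ideal.radical_eq_sInf, Ideal.mem_sInf]
    rintro P ⟨hJP, hP⟩
    by_contra hh
    let p : PrimeSpectrum Γ(X, ⊤) := ⟨P, hP⟩
    let x : X := (isAffineOpen_top X).fromSpec p
    have hmem : ∀ c : Γ(X, ⊤), x ∈ X.basicOpen c ↔ c ∉ P := fun c =>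
      Iff.of_eq (congrArg (p ∈ ·) ((isAffineOpen_top X).fromSpec_preimage_basicOpen c))
    obtain ⟨O, hO, hk⟩ := exists_kill (hX.opens (X.basicOpen h)) n _ (Phi (X.basicOpen h).ι F (n + 1) e)
      ⟨x, (hmem h).2 hh⟩
    obtain ⟨c, hcU, hxc⟩ := (isAffineOpen_top X).exists_basicOpen_le
      (V := (X.basicOpen h).ι ''ᵁ O) ⟨x, ⟨_, hO, rfl⟩⟩ trivial
    refine (hmem c).1 hxc (hJP ?_)
    show res F (mul_le_right c h) (n + 1) e = 0
    rw [res_eq_zero_iff, hpullVia_eq_zero_iff]
    have hr : Set.range (X.homOfLE (mul_le_right c h)) ⊆ Set.range O.ι := by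
      rintro _ ⟨q, rfl⟩
      obtain ⟨q', hq', he⟩ := hcU (mul_le_left c h q.2)
      rw [Scheme.Opens.range_ι]
      refine Set.mem_of_eq_of_mem ((X.basicOpen h).ι.isOpenEmbedding.injective ?_) hq'
      rw [← Scheme.Hom.comp_apply, Scheme.homOfLE_ι]
      exact he.symm
    rw [KPi1Lib.Hpull_comp_eq_zero O.ι (IsOpenImmersion.lift O.ι (X.homOfLE (mul_le_right c h)) hr)
      (X.homOfLE (mul_le_right c h)) (IsOpenImmersion.lift_fac O.ι _ hr), hk, map_zero]
  obtain ⟨k, hk⟩ := hrad
  have hle : X.basicOpen h ≤ X.basicOpen (h ^ k * h) := by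
    rw [← pow_succ, Scheme.basicOpen_pow _ _ k.succ_pos]
  refine res_injective_of_ge F (mul_le_right (h ^ k) h) hle (n + 1) ?_
  rw [map_zero]
  exact hk

theorem mem_or_mem_of_mem_add {f g : Γ(X, ⊤)} {x : X} (hx : x ∈ X.basicOpen (f + g)) :
    x ∈ X.basicOpen f ∨ x ∈ X.basicOpen g := by
  simp only [Scheme.mem_basicOpen_top, map_add] at hx ⊢
  exact IsLocalRing.isUnit_or_isUnit_of_isUnit_add hx

theorem mem_range_homOfLE {a b : X.Opens} (h : a ≤ b) (x : b.toScheme) :
    x ∈ Set.range (X.homOfLE h) ↔ x.1 ∈ a := by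
  constructor
  · rintro ⟨q, rfl⟩
    rw [show (X.homOfLE h q).1 = (X.homOfLE h ≫ b.ι) q from rfl, Scheme.homOfLE_ι]
    exact q.2
  · intro hx
    refine ⟨⟨x.1, hx⟩, b.ι.isOpenEmbedding.injective ?_⟩
    rw [← Scheme.Hom.comp_apply, Scheme.homOfLE_ι]
    rfl

theorem injP_succ {n : ℕ} (hP : ∀ h : Γ(X, ⊤), Subsingleton (Ext (GW (X.basicOpen h).ι) F n)) :
    InjP F (n + 1) := by
  intro f g e ha hb
  let a := f * (f + g)
  let b := g * (f + g)
  let W := X.basicOpen (f + g)
  let jA : (X.basicOpen a).toScheme ⟶ W.toScheme := X.homOfLE (mul_le_right f (f + g))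
  let jB : (X.basicOpen b).toScheme ⟶ W.toScheme := X.homOfLE (mul_le_right g (f + g))
  let kA : (X.basicOpen (a * b)).toScheme ⟶ (X.basicOpen a).toScheme := X.homOfLE (mul_le_left a b)
  let kB : (X.basicOpen (a * b)).toScheme ⟶ (X.basicOpen b).toScheme := X.homOfLE (mul_le_right a b)
  let jC : (X.basicOpen (a * b)).toScheme ⟶ W.toScheme :=
    X.homOfLE ((mul_le_left a b).trans (mul_le_right f (f + g)))
  have wA : kA ≫ jA = jC := X.homOfLE_homOfLE _ _
  have wB : kB ≫ jB = jC := X.homOfLE_homOfLE _ _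
  obtain ⟨δ, -, hδ, -, -⟩ := exists_mayerVietoris jA jB jC kA wA kB wB ((EtCoh.pull W.ι).obj F)
    (fun x => (mem_or_mem_of_mem_add x.2).imp
      (fun hf => (mem_range_homOfLE _ x).2 (by
        show x.1 ∈ X.basicOpen (f * (f + g))
        rw [Scheme.basicOpen_mul]
        exact ⟨hf, x.2⟩))
      (fun hg => (mem_range_homOfLE _ x).2 (by
        show x.1 ∈ X.basicOpen (g * (f + g))
        rw [Scheme.basicOpen_mul]
        exact ⟨hg, x.2⟩)))
    (fun x hx => (mem_range_homOfLE _ x).2 (by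
      rw [Scheme.basicOpen_mul]
      exact ⟨(mem_range_homOfLE _ x).1 hx.1, (mem_range_homOfLE _ x).1 hx.2⟩))
  have hC : Subsingleton (EtCoh.H (X.basicOpen (a * b)).toScheme ((EtCoh.pull (X.basicOpen (a * b)).ι).obj F) n) := by
    haveI := hP (a * b)
    exact (bijective_Phi (X.basicOpen (a * b)).ι F n).2.subsingleton
  haveI : Subsingleton ↑((EtCoh.HF (X.basicOpen (a * b)).toScheme n).obj
    ((EtCoh.pull (X.basicOpen (a * b)).ι).obj F)) := hC
  have hC' : Subsingleton (EtCoh.H (X.basicOpen (a * b)).toScheme ((EtCoh.pull jC).obj ((EtCoh.pull W.ι).obj F)) n) :=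
    (ConcreteCategory.bijective_of_isIso ((EtCoh.HF _ n).map
      (((EtCore.pullComp jC W.ι).symm ≪≫ EtCore.pullCongr (X.homOfLE_ι _)).app F).hom)).1.subsingleton
  have hmem : Phi W.ι F (n + 1) e ∈ (rmap jA jB ((EtCoh.pull W.ι).obj F) (n + 1)).ker := by
    refine Prod.ext ?_ ?_
    · exact (hpullVia_eq_zero_iff jA W.ι _ (X.homOfLE_ι _) F (n + 1) _).1 ((res_eq_zero_iff F _ _ e).1 ha)
    · exact (hpullVia_eq_zero_iff jB W.ι _ (X.homOfLE_ι _) F (n + 1) _).1 ((res_eq_zero_iff F _ _ e).1 hb)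
  rw [hδ] at hmem
  obtain ⟨c, hc⟩ := hmem
  rw [Subsingleton.elim c 0, map_zero] at hc
  exact (bijective_Phi W.ι F (n + 1)).1 (hc.symm.trans (map_zero _).symm)

/-- Gabber's criterion. -/
theorem subsingleton_H [IsAffine X] (hX : LocSec X) (h1 : InjP F 1) (n : ℕ) :
    Subsingleton (EtCoh.H X F (n + 1)) := by
  have hP : ∀ h : Γ(X, ⊤), Subsingleton (Ext (GW (X.basicOpen h).ι) F (n + 1)) := by
    induction n with
    | zero => exact subsingleton_of_injP F hX h1
    | succ n ih => exact subsingleton_of_injP F hX (injP_succ F ih)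
  haveI : IsIso (X.basicOpen (1 : Γ(X, ⊤))).ι := by
    rw [Scheme.basicOpen_one]
    exact inferInstanceAs (IsIso X.topIso.hom)
  haveI := hP 1
  haveI := (bijective_Phi (X.basicOpen (1 : Γ(X, ⊤))).ι F (n + 1)).2.subsingleton
  exact (AcycCompLib.bijective_Hpull_of_isIso (X.basicOpen (1 : Γ(X, ⊤))).ι F (n + 1)).1.subsingleton

end Groth.Agent.EtGabberLib
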